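import Mathlib
import Groth.Agent.Lib.Helper3.CA.KaehlerReg
import Groth.Agent.Lib.Helper5.CA.GR2

set_option autoImplicit false
universe u

open TensorProduct IsLocalRing KaehlerDifferential

namespace Groth.Agent.H5.RegSm

/-- Over a perfect field, a finite type algebra is regular iff it is (formally) smooth. -/
theorem isRegularRing_iff_formallySmooth (k B : Type u) [Field k] [PerfectField k] [CommRing B]
    [Algebra k B] [Algebra.FiniteType k B] :
    IsRegularRing B ↔ Algebra.FormallySmooth k B := by
  haveI : IsNoetherianRing B := Algebra.FiniteType.isNoetherianRing k B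
  haveI : Algebra.FinitePresentation k B := Algebra.FinitePresentation.of_finiteType.mp inferInstance
  constructor
  · intro h
    rw [← Algebra.smoothLocus_eq_univ_iff, Set.eq_univ_iff_forall]
    intro p
    show Algebra.FormallySmooth k (Localization.AtPrime p.asIdeal)
    haveI : Algebra.EssFiniteType B (Localization.AtPrime p.asIdeal) :=
      Algebra.EssFiniteType.of_isLocalization _ p.asIdeal.primeCompl
    haveI : Algebra.EssFiniteType k (Localization.AtPrime p.asIdeal) :=
      Algebra.EssFiniteType.comp k B _
    haveI : IsRegularLocalRing (Localization.AtPrime p.asIdeal) :=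
      h.isRegularLocalRing_localization p.asIdeal
    exact Groth.Agent.H3.KReg.formallySmooth_of_isRegularLocalRing_of_perfectField k _
  · intro h
    rw [isRegularRing_iff]
    intro p hp
    haveI : Algebra.FormallySmooth B (Localization.AtPrime p) :=
      Algebra.FormallySmooth.of_isLocalization p.primeCompl
    haveI : Algebra.FormallySmooth k (Localization.AtPrime p) :=
      Algebra.FormallySmooth.comp k B _
    haveI : IsNoetherianRing (Localization.AtPrime p) :=
      IsLocalization.isNoetherianRing p.primeCompl _ inferInstance
    exact Groth.Agent.H5.GR.isRegularLocalRing_of_isAdicFormallySmooth k _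
      (Groth.Agent.H5.GR.isAdicFormallySmooth_of_formallySmooth k _ _)

theorem main10910 (k : Type u) [Field k]
    [IsAlgClosed k] (A B : Type u) [CommRing A] [CommRing B] [Algebra k A] [Algebra.FiniteType k A]
    [IsRegularRing A] [Algebra A B] [Algebra k B] [IsScalarTower k A B]
    (hsurj : Function.Surjective (algebraMap A B)) :
    IsRegularRing B ↔
      (Module.Projective B (Ω[B⁄k]) ∧
        Function.Injective (KaehlerDifferential.kerCotangentToTensor k A B)) := by
  haveI : Algebra.FormallySmooth k A := (isRegularRing_iff_formallySmooth k A).mp inferInstance
  haveI : Algebra.FiniteType k B := by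
    haveI : Algebra.FiniteType A B := Algebra.FiniteType.of_surjective (Algebra.ofId A B) hsurj
    exact Algebra.FiniteType.trans (inferInstance : Algebra.FiniteType k A) inferInstance
  rw [isRegularRing_iff_formallySmooth k B, Algebra.formallySmooth_iff,
    Algebra.FormallySmooth.kerCotangentToTensor_injective_iff hsurj]

end Groth.Agent.H5.RegSm
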